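import Mathlib

/-!
# Étaleness of `A[T]/(F)` for monic `F`
-/

universe u

open Polynomial

namespace Groth.Agent.EtaleKummer

variable {R : Type u} [CommRing R]

/-- `R[T]/(F)` is étale iff `F'` is a unit in it. -/
theorem etale_adjoinRoot_iff {F : R[X]} (hF : F.Monic) :
    Algebra.Etale R (AdjoinRoot F) ↔ IsUnit (AdjoinRoot.mk F (derivative F)) := by
  constructor
  · intro h
    let x := AdjoinRoot.root F
    set d := AdjoinRoot.mk F (derivative F) with hd
    let S := AdjoinRoot F ⧸ Ideal.span {d}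
    let q : AdjoinRoot F →ₐ[R] S := Ideal.Quotient.mkₐ R _
    let ι : S →ₐ[R] DualNumber S := IsScalarTower.toAlgHom R S (DualNumber S)
    let π : DualNumber S →ₐ[R] S := (TrivSqZeroExt.fstHom S S S).restrictScalars R
    let y : DualNumber S := ι (q x) + DualNumber.eps
    have hd0 : q d = 0 := Ideal.Quotient.eq_zero_iff_mem.2 (Ideal.mem_span_singleton_self d)
    have hx : aeval (q x) F = 0 := by
      show aeval (q (AdjoinRoot.root F)) F = 0
      rw [aeval_algHom_apply, AdjoinRoot.aeval_eq, AdjoinRoot.mk_self, map_zero]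
    have hx' : aeval (q x) (derivative F) = 0 := by
      show aeval (q (AdjoinRoot.root F)) (derivative F) = 0
      rw [aeval_algHom_apply, AdjoinRoot.aeval_eq, ← hd, hd0]
    have hy : aeval y F = 0 := by
      rw [aeval_add_of_sq_eq_zero F (ι (q x)) DualNumber.eps (by rw [sq, DualNumber.eps_mul_eps]),
        aeval_algHom_apply ι, aeval_algHom_apply ι, hx, hx']
      simp
    let g₁ : AdjoinRoot F →ₐ[R] DualNumber S := ι.comp q
    let g₂ : AdjoinRoot F →ₐ[R] DualNumber S := AdjoinRoot.liftAlgHom F (Algebra.ofId _ _) y hy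
    have hπ : π.comp g₂ = π.comp g₁ := AdjoinRoot.algHom_ext (by
      simp [g₁, g₂, y, π, ι, x, TrivSqZeroExt.algebraMap_eq_inl])
    have hnil : IsNilpotent (RingHom.ker π.toRingHom) := by
      refine ⟨2, eq_bot_iff.2 ?_⟩
      rw [Submodule.pow_succ, Submodule.pow_one, Ideal.mul_le]
      intro a ha b hb
      rw [RingHom.mem_ker] at ha hb
      refine Ideal.mem_bot.2 (TrivSqZeroExt.ext ?_ ?_)
      · simp [show a.fst = 0 from ha]
      · simp [show a.fst = 0 from ha, show b.fst = 0 from hb]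
    have he : g₁ = g₂ := Algebra.FormallyUnramified.ext' π.toRingHom hnil g₁ g₂
      fun b => (DFunLike.congr_fun hπ b).symm
    have h1 : (1 : S) = 0 := by
      have := congrArg TrivSqZeroExt.snd (DFunLike.congr_fun he x)
      simpa [g₁, g₂, y, ι, x, TrivSqZeroExt.algebraMap_eq_inl] using this.symm
    have : (1 : AdjoinRoot F) ∈ Ideal.span {d} := Ideal.Quotient.eq_zero_iff_mem.1 (by
      rw [map_one]; exact h1)
    obtain ⟨c, hc⟩ := Ideal.mem_span_singleton'.1 this
    exact IsUnit.of_mul_eq_one c (by rw [mul_comm, hc])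
  · intro h
    obtain ⟨b', hb'⟩ := h.exists_right_inv
    obtain ⟨b, rfl⟩ := AdjoinRoot.mk_surjective b'
    rw [← map_mul, ← map_one (AdjoinRoot.mk F), AdjoinRoot.mk_eq_mk] at hb'
    obtain ⟨a, ha⟩ := hb'
    let P : StandardEtalePair R :=
      { f := F, monic_f := hF, g := 1, cond := ⟨b, -a, 1, by linear_combination ha⟩ }
    haveI : IsLocalization.Away (1 : AdjoinRoot F)
        (Localization.Away (AdjoinRoot.mk P.f P.g)) := by
      have h1 : AdjoinRoot.mk P.f P.g = (1 : AdjoinRoot F) := map_one (AdjoinRoot.mk F)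
      rw [← h1]
      infer_instance
    exact Algebra.Etale.of_equiv (P.equivAwayAdjoinRoot.trans
      ((IsLocalization.atOne (AdjoinRoot F)
        (Localization.Away (AdjoinRoot.mk P.f P.g))).restrictScalars R).symm)

/-- Units descend along `R → R[T]/(F)` for monic `F` of positive degree. -/
theorem isUnit_of_isUnit_algebraMap {F : R[X]} (hF : F.Monic) (hdeg : F.natDegree ≠ 0) {a : R}
    (h : IsUnit (algebraMap R (AdjoinRoot F) a)) : IsUnit a := by
  nontriviality R
  obtain ⟨b', hb'⟩ := h.exists_right_inv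
  obtain ⟨b, rfl⟩ := AdjoinRoot.mk_surjective b'
  have hh : AdjoinRoot.mk F (C a * (b %ₘ F)) = AdjoinRoot.mk F 1 := by
    rw [map_mul, map_one, AdjoinRoot.mk_C]
    have hb2 : AdjoinRoot.mk F (b %ₘ F) = AdjoinRoot.mk F b := by
      refine AdjoinRoot.mk_eq_mk.2 ⟨-(b /ₘ F), ?_⟩
      linear_combination (modByMonic_add_div b F)
    rw [hb2]
    exact hb'
  rw [AdjoinRoot.mk_eq_mk] at hh
  have hlt : (C a * (b %ₘ F) - 1).degree < F.degree := by
    refine (degree_sub_le _ _).trans_lt (max_lt ?_ ?_)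
    · exact ((degree_mul_le _ _).trans (add_le_add_left degree_C_le _)).trans_lt
        (by simpa using degree_modByMonic_lt b hF)
    · rw [degree_one, degree_eq_natDegree hF.ne_zero]
      exact_mod_cast Nat.pos_of_ne_zero hdeg
  have h0 := sub_eq_zero.1 ((modByMonic_eq_self_iff hF).2 hlt ▸ (modByMonic_eq_zero_iff_dvd hF).2 hh)
  exact IsUnit.of_mul_eq_one ((b %ₘ F).coeff 0) (by simpa using congrArg (coeff · 0) h0)

/-- `A[T]/(T^n - a)` is étale iff `n = 1` or `n * a` is a unit. -/
theorem etale_X_pow_sub_C_iff (a : R) (n : ℕ) (hn : 1 ≤ n) :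
    Algebra.Etale R (AdjoinRoot ((X : R[X]) ^ n - C a)) ↔ n = 1 ∨ IsUnit ((n : R) * a) := by
  have hF : ((X : R[X]) ^ n - C a).Monic := monic_X_pow_sub_C a (by omega)
  rw [etale_adjoinRoot_iff hF]
  rcases subsingleton_or_nontrivial R with hR | hR
  · haveI : Subsingleton R[X] := inferInstance
    haveI : Subsingleton (AdjoinRoot ((X : R[X]) ^ n - C a)) := AdjoinRoot.mk_surjective.subsingleton
    exact iff_of_true (isUnit_of_subsingleton _) (Or.inr (isUnit_of_subsingleton _))
  rcases eq_or_lt_of_le hn with rfl | h2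
  · simp
  simp only [derivative_sub, derivative_C, sub_zero, derivative_X_pow, map_mul, map_pow,
    AdjoinRoot.mk_C, AdjoinRoot.mk_X, IsUnit.mul_iff, h2.ne', false_or]
  set F := (X : R[X]) ^ n - C a with hFdef
  have hdeg : F.natDegree ≠ 0 := by rw [hFdef, natDegree_X_pow_sub_C]; omega
  have hpow : AdjoinRoot.root F ^ n = AdjoinRoot.of F a := by
    have := AdjoinRoot.mk_self (f := F)
    rwa [hFdef, map_sub, map_pow, AdjoinRoot.mk_X, AdjoinRoot.mk_C, sub_eq_zero, ← hFdef] at this
  constructor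
  · rintro ⟨h1, h2'⟩
    have hr := (isUnit_pow_iff (by omega)).1 h2'
    exact ⟨isUnit_of_isUnit_algebraMap hF hdeg h1,
      isUnit_of_isUnit_algebraMap hF hdeg (a := a) (by
        have := hr.pow n
        rwa [hpow] at this)⟩
  · rintro ⟨h1, h2'⟩
    refine ⟨h1.map _, (isUnit_pow_iff (M := AdjoinRoot F) (n := n) (by omega)).1 ?_ |>.pow _⟩
    rw [hpow]
    exact h2'.map _

end Groth.Agent.EtaleKummer
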